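import Groth.Agent.Hens22.Idempotents
import Groth.Agent.WE24.AbsFlat
import Mathlib.RingTheory.Henselian
import Mathlib.RingTheory.Ideal.GoingUp
import Mathlib.RingTheory.Idempotents

universe u

namespace Groth.Agent.WE91

open IsLocalRing

/-- A domain integral over a henselian local ring is local. -/
theorem isLocalRing_of_isIntegral_of_isDomain (A D : Type u) [CommRing A] [HenselianLocalRing A]
    [CommRing D] [IsDomain D] [Algebra A D] [Algebra.IsIntegral A D] : IsLocalRing D := by
  classical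
  refine IsLocalRing.of_unique_max_ideal ?_
  obtain ⟨M, hM⟩ := Ideal.exists_maximal D
  refine ⟨M, hM, fun M' hM' => ?_⟩
  by_contra hne
  let I := maximalIdeal A
  let J := I.map (algebraMap A D)
  have hle : ∀ N : Ideal D, N.IsMaximal → J ≤ N := fun N hN => by
    have := hN
    exact Ideal.map_le_iff_le_comap.2 (IsLocalRing.eq_maximalIdeal
      (Ideal.isMaximal_comap_of_isIntegral_of_isMaximal (R := A) N)).ge
  have hprime : ∀ P : Ideal D, P.IsPrime → J ≤ P → P.IsMaximal := fun P hP hJP => by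
    have := hP
    refine Ideal.isMaximal_of_isIntegral_of_isMaximal_comap (R := A) P ?_
    exact (maximalIdeal.isMaximal A).eq_of_le (Ideal.comap_ne_top _ hP.ne_top)
      (Ideal.map_le_iff_le_comap.1 hJP) ▸ maximalIdeal.isMaximal A
  obtain ⟨d, hdM', hdM⟩ := SetLike.not_le_iff_exists.1 fun h => hne (hM'.eq_of_le hM.ne_top h)
  let S := D ⧸ J.radical
  have hred : IsReduced S := (Ideal.isRadical_iff_quotient_reduced _).1 J.radical_isRadical
  have hmax : ∀ p : Ideal S, p.IsPrime → p.IsMaximal := fun p hp => by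
    have h1 : (p.comap (Ideal.Quotient.mk J.radical)).IsMaximal := hprime _ (hp.comap _) fun x hx => by
      show Ideal.Quotient.mk J.radical x ∈ p
      rw [Ideal.Quotient.eq_zero_iff_mem.2 (Ideal.le_radical hx)]; exact p.zero_mem
    rw [← Ideal.map_comap_of_surjective _ Ideal.Quotient.mk_surjective p]
    exact (Ideal.map_eq_top_or_isMaximal_of_surjective _ Ideal.Quotient.mk_surjective h1).resolve_left
      (by rw [Ideal.map_comap_of_surjective _ Ideal.Quotient.mk_surjective]; exact hp.ne_top)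
  obtain ⟨y, hy⟩ := WE24.vnr_of_reduced_of_isMaximal hred hmax (Ideal.Quotient.mk J.radical d)
  obtain ⟨y, rfl⟩ := Ideal.Quotient.mk_surjective y
  let π : D ⧸ J →+* S := Ideal.Quotient.factor Ideal.le_radical
  have hnil : ∀ x ∈ RingHom.ker π, IsNilpotent x := fun x hx => by
    obtain ⟨x, rfl⟩ := Ideal.Quotient.mk_surjective x
    obtain ⟨n, hn⟩ := Ideal.Quotient.eq_zero_iff_mem.1 (show Ideal.Quotient.mk J.radical x = 0 from hx)
    exact ⟨n, by rw [← map_pow]; exact Ideal.Quotient.eq_zero_iff_mem.2 hn⟩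
  have he : IsIdempotentElem (Ideal.Quotient.mk J.radical (d * y)) := by
    show _ * _ = _
    rw [map_mul]; linear_combination (Ideal.Quotient.mk J.radical y) * hy
  obtain ⟨e₀, he₀, heπ⟩ := exists_isIdempotentElem_eq_of_ker_isNilpotent π hnil _
    ⟨Ideal.Quotient.mk J (d * y), rfl⟩ he
  obtain ⟨e₀, rfl⟩ := Ideal.Quotient.mk_surjective e₀
  obtain ⟨ε, hε, hεe⟩ := Hens22.exists_idempotent_lift I (B := D) (e := e₀) (by
    show e₀ * e₀ - e₀ ∈ J
    rw [← Ideal.Quotient.eq_zero_iff_mem, map_sub, map_mul, he₀.eq, sub_self])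
  have hrad : ε - d * y ∈ J.radical := by
    rw [← Ideal.Quotient.eq_zero_iff_mem, map_sub, sub_eq_zero]
    exact ((congrArg π (Ideal.Quotient.eq.2 hεe)).trans heπ : π (Ideal.Quotient.mk J ε) = _)
  have hradle : ∀ N : Ideal D, N.IsMaximal → J.radical ≤ N := fun N hN =>
    hN.isPrime.radical_le_iff.2 (hle N hN)
  rcases IsIdempotentElem.iff_eq_zero_or_one.1 hε with h0 | h1
  · -- `d * y` lies in `M`, but `d` is a unit there
    have hdy : Ideal.Quotient.mk J.radical (d * y) = 0 := by
      rw [Ideal.Quotient.eq_zero_iff_mem]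
      simpa [h0] using neg_mem hrad
    have hd0 : Ideal.Quotient.mk J.radical d = 0 := by
      rw [← hy, mul_assoc, ← map_mul, hdy, mul_zero]
    exact hdM (hradle M hM (Ideal.Quotient.eq_zero_iff_mem.1 hd0))
  · have h2 : (1 : D) - d * y ∈ M' := hradle M' hM' (h1 ▸ hrad)
    exact hM'.ne_top ((Ideal.eq_top_iff_one _).2 (by simpa using add_mem h2 (M'.mul_mem_right y hdM')))

end Groth.Agent.WE91
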