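import Groth.Agent.WE91.Olivier
import Groth.Agent.Ind91.Loc
import Groth.Agent.WE24.AbsFlat
import Mathlib.RingTheory.Localization.AtPrime.Basic
import Groth.Prelude.Def_EtBase

universe u

namespace Groth.Agent.WE91

variable {A B : Type u} [CommRing A] [CommRing B] [Algebra A B]

/-- A localization is weakly etale. -/
theorem weaklyEtale_of_isLocalization (R S : Type u) [CommRing R] [CommRing S] [Algebra R S]
    (M : Submonoid R) [IsLocalization M S] : Algebra.WeaklyEtale R S :=
  Ind91.weaklyEtale_of_isIndEtale (Ind91.isIndEtale_of_isLocalization R S M)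

/-- Weakly etale maps are bijective on local rings above strictly henselian points. -/
theorem bijective_localRingHom_of_strictlyHenselian [Algebra.WeaklyEtale A B] (p : Ideal A) [p.IsPrime]
    (q : Ideal B) [q.IsPrime] (hpq : p = q.comap (algebraMap A B))
    (hsh : EtCoh.IsStrictlyHenselianLocalRing (Localization.AtPrime p)) :
    Function.Bijective (Localization.localRingHom p q (algebraMap A B) hpq) := by
  obtain ⟨_, _⟩ := hsh
  let Ap := Localization.AtPrime p
  let Bq := Localization.AtPrime q
  letI : Algebra Ap Bq := (Localization.localRingHom p q (algebraMap A B) hpq).toAlgebra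
  have : IsScalarTower A Ap Bq := IsScalarTower.of_algebraMap_eq fun a => by
    rw [RingHom.algebraMap_toAlgebra, Localization.localRingHom_to_map,
      IsScalarTower.algebraMap_apply A B Bq]
  have := weaklyEtale_of_isLocalization A Ap p.primeCompl
  have := weaklyEtale_of_isLocalization B Bq q.primeCompl
  have : Algebra.WeaklyEtale A Bq := Algebra.WeaklyEtale.trans A B Bq
  have : Algebra.WeaklyEtale Ap Bq := WE24.weaklyEtale_of_algHom A Ap Bq
  have : IsLocalHom (algebraMap Ap Bq) := Localization.isLocalHom_localRingHom p q (algebraMap A B) hpq
  exact bijective_algebraMap (A := Ap) (B := Bq)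

end Groth.Agent.WE91
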