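import Groth.Agent.WE24.Field
import Mathlib.RingTheory.LocalRing.ResidueField.Ideal
import Mathlib.RingTheory.Localization.FractionRing

universe u

open TensorProduct

namespace Groth.Agent.WE91

variable {A B : Type u} [CommRing A] [CommRing B] [Algebra A B]

/-- Elements of a fibre have denominators off the prime. -/
theorem exists_denominator_fibre (p : Ideal A) [p.IsPrime] (z : p.ResidueField ⊗[A] B) :
    ∃ (s : A) (b : B), s ∉ p ∧ s • z = (1 : p.ResidueField) ⊗ₜ b := by
  induction z using TensorProduct.induction_on with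
  | zero => exact ⟨1, 0, (Ideal.ne_top_iff_one p).1 (Ideal.IsPrime.ne_top inferInstance), by simp⟩
  | tmul k b =>
    obtain ⟨c, ⟨s, hs⟩, rfl⟩ := IsLocalization.exists_mk'_eq (nonZeroDivisors (A ⧸ p)) k
    obtain ⟨c, rfl⟩ := Ideal.Quotient.mk_surjective c
    obtain ⟨s, rfl⟩ := Ideal.Quotient.mk_surjective s
    refine ⟨s, c • b, fun h => nonZeroDivisors.ne_zero hs (Ideal.Quotient.eq_zero_iff_mem.2 h), ?_⟩
    rw [smul_tmul', Algebra.smul_def, IsScalarTower.algebraMap_apply A (A ⧸ p) p.ResidueField,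
      Ideal.Quotient.algebraMap_eq]
    rw [show algebraMap (A ⧸ p) p.ResidueField (Ideal.Quotient.mk p s) *
        IsLocalization.mk' p.ResidueField (Ideal.Quotient.mk p c) (⟨_, hs⟩ : nonZeroDivisors (A ⧸ p)) =
        algebraMap (A ⧸ p) p.ResidueField (Ideal.Quotient.mk p c) from
          IsLocalization.mk'_spec' p.ResidueField (Ideal.Quotient.mk p c) (⟨_, hs⟩ : nonZeroDivisors (A ⧸ p)),
      ← Ideal.Quotient.algebraMap_eq, ← IsScalarTower.algebraMap_apply,
      Algebra.algebraMap_eq_smul_one, smul_tmul]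
  | add z w hz hw =>
    obtain ⟨a, b, ha, hz⟩ := hz
    obtain ⟨a', b', ha', hw⟩ := hw
    refine ⟨a * a', a' • b + a • b', Ideal.IsPrime.mul_notMem inferInstance ha ha', ?_⟩
    rw [smul_add, mul_comm, mul_smul, hz, mul_comm, mul_smul, hw, tmul_add, tmul_smul, tmul_smul]

/-- There are no specializations in the fibres of a weakly etale map. -/
theorem eq_of_le_of_comap_eq [Algebra.WeaklyEtale A B] (q q' : Ideal B) [q.IsPrime] [q'.IsPrime]
    (hle : q ≤ q') (hc : q.comap (algebraMap A B) = q'.comap (algebraMap A B)) : q = q' := by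
  refine le_antisymm hle fun x hx => by_contra fun hxq => ?_
  set p := q'.comap (algebraMap A B)
  let k := p.ResidueField
  have hker : p = RingHom.ker (algebraMap A q.ResidueField) := by
    rw [IsScalarTower.algebraMap_eq A B q.ResidueField, ← RingHom.comap_ker,
      Ideal.ker_algebraMap_residueField]
    exact hc.symm
  have hker' : p = RingHom.ker (algebraMap A q'.ResidueField) := by
    rw [IsScalarTower.algebraMap_eq A B q'.ResidueField, ← RingHom.comap_ker,
      Ideal.ker_algebraMap_residueField]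
  let χ : k ⊗[A] B →ₐ[A] q.ResidueField := Algebra.TensorProduct.lift
    (Ideal.ResidueField.liftₐ p (Algebra.ofId A _) hker.le (fun a ha => by
      refine isUnit_iff_ne_zero.2 fun h => ha ?_
      show a ∈ p
      rw [hker]; exact h))
    (IsScalarTower.toAlgHom A B _) fun _ _ => Commute.all _ _
  let χ' : k ⊗[A] B →ₐ[A] q'.ResidueField := Algebra.TensorProduct.lift
    (Ideal.ResidueField.liftₐ p (Algebra.ofId A _) hker'.le (fun a ha => by
      refine isUnit_iff_ne_zero.2 fun h => ha ?_
      show a ∈ p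
      rw [hker']; exact h))
    (IsScalarTower.toAlgHom A B _) fun _ _ => Commute.all _ _
  have hχ : ∀ b, χ ((1 : k) ⊗ₜ b) = algebraMap B _ b := fun b => by simp [χ]
  have hχ' : ∀ b, χ' ((1 : k) ⊗ₜ b) = algebraMap B _ b := fun b => by simp [χ']
  obtain ⟨y, hy⟩ := WE24.vnr_of_weaklyEtale (K := k) ((1 : k) ⊗ₜ[A] x)
  obtain ⟨s, b, hs, hsb⟩ := exists_denominator_fibre p (((1 : k) ⊗ₜ[A] x) * y)
  have h1 : χ (((1 : k) ⊗ₜ[A] x) * y) = 1 := by
    have h := congrArg χ hy
    rw [map_mul, map_mul, hχ] at h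
    rw [map_mul, hχ]
    refine mul_left_cancel₀ (a := algebraMap B q.ResidueField x) ?_ (by rw [← mul_assoc, h, mul_one])
    exact fun h0 => hxq (Ideal.algebraMap_residueField_eq_zero.1 h0)
  have h2 : χ' (((1 : k) ⊗ₜ[A] x) * y) = 0 := by
    rw [map_mul, hχ', Ideal.algebraMap_residueField_eq_zero.2 hx, zero_mul]
  have hb' : b ∈ q' := by
    have h := congrArg χ' hsb
    rw [map_smul, h2, smul_zero, hχ'] at h
    exact Ideal.algebraMap_residueField_eq_zero.1 h.symm
  have hb : b - algebraMap A B s ∈ q := by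
    have h := congrArg χ hsb
    rw [map_smul, h1, hχ, Algebra.smul_def, mul_one, IsScalarTower.algebraMap_apply A B q.ResidueField] at h
    rw [← Ideal.algebraMap_residueField_eq_zero, map_sub, h, sub_self]
  exact hs (show algebraMap A B s ∈ q' by simpa using sub_mem hb' (hle hb))

end Groth.Agent.WE91
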