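import Groth.Agent.S1974
import Groth.Agent.Ind91.LocIdent
import Groth.Prelude.Def_ProEtW
import Mathlib.RingTheory.Localization.Integral
import Mathlib.RingTheory.LocalRing.ResidueField.Instances

universe u

namespace Groth.Agent.WE91

/-- Weakly etale maps induce algebraic residue extensions. -/
theorem algebraicResidueExtensions {A B : Type u} [CommRing A] [CommRing B] [Algebra A B]
    [Algebra.WeaklyEtale A B] : ProEtW.AlgebraicResidueExtensions A B := by
  intro q _
  constructor
  let p := q.comap (algebraMap A B)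
  have : q.LiesOver p := ⟨rfl⟩
  letI := Localization.AtPrime.algebraOfLiesOver p q
  have hsep := Groth.Agent.S1974.result A B p q
  intro x
  obtain ⟨b, rfl⟩ := Ideal.Quotient.mk_surjective x
  letI : Algebra (A ⧸ p) q.ResidueField :=
    ((algebraMap p.ResidueField q.ResidueField).comp (algebraMap (A ⧸ p) p.ResidueField)).toAlgebra
  have : IsScalarTower (A ⧸ p) p.ResidueField q.ResidueField := IsScalarTower.of_algebraMap_eq' rfl
  have : IsScalarTower A (A ⧸ p) q.ResidueField := IsScalarTower.of_algebraMap_eq fun a => by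
    show algebraMap A q.ResidueField a =
      algebraMap p.ResidueField q.ResidueField (algebraMap (A ⧸ p) p.ResidueField (algebraMap A (A ⧸ p) a))
    rw [← IsScalarTower.algebraMap_apply A (A ⧸ p) p.ResidueField,
      ← IsScalarTower.algebraMap_apply A p.ResidueField q.ResidueField]
  have h1 : IsAlgebraic (A ⧸ p) (algebraMap (B ⧸ q) q.ResidueField (Ideal.Quotient.mk q b)) :=
    (IsFractionRing.isAlgebraic_iff (A ⧸ p) p.ResidueField q.ResidueField).2
      (Algebra.IsAlgebraic.isAlgebraic (R := p.ResidueField)
        (algebraMap (B ⧸ q) q.ResidueField (Ideal.Quotient.mk q b)))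
  exact h1.of_ringHom_of_comp_eq (RingHom.id (A ⧸ p)) (algebraMap (B ⧸ q) q.ResidueField)
    Function.surjective_id q.injective_algebraMap_quotient_residueField
    (by
      refine Ideal.Quotient.ringHom_ext (RingHom.ext fun a => ?_)
      show algebraMap (A ⧸ p) q.ResidueField (Ideal.Quotient.mk p a) =
        algebraMap (B ⧸ q) q.ResidueField (algebraMap (A ⧸ p) (B ⧸ q) (Ideal.Quotient.mk p a))
      rw [← Ideal.Quotient.algebraMap_eq, ← IsScalarTower.algebraMap_apply A (A ⧸ p) q.ResidueField,
        ← IsScalarTower.algebraMap_apply A (A ⧸ p) (B ⧸ q),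
        ← IsScalarTower.algebraMap_apply A (B ⧸ q) q.ResidueField])

/-- If the map of local rings at a prime is bijective, so is the one at every smaller prime. -/
theorem bijective_localRingHom_of_le {A B : Type u} [CommRing A] [CommRing B] [Algebra A B]
    (q M : Ideal B) [q.IsPrime] [M.IsPrime] (hle : q ≤ M)
    (h : Function.Bijective
      (Localization.localRingHom (M.comap (algebraMap A B)) M (algebraMap A B) rfl)) :
    Function.Bijective
      (Localization.localRingHom (q.comap (algebraMap A B)) q (algebraMap A B) rfl) := by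
  set L := Localization.localRingHom (M.comap (algebraMap A B)) M (algebraMap A B) rfl
  have hs : ∀ b : B, ∃ a g : A, ∃ k : B, algebraMap A B g ∉ M ∧ k ∉ M ∧
      k * (algebraMap A B g * b - algebraMap A B a) = 0 := by
    intro b
    obtain ⟨y, hy⟩ := h.2 (algebraMap B _ b)
    obtain ⟨a, ⟨g, hg⟩, rfl⟩ := IsLocalization.exists_mk'_eq (M.comap (algebraMap A B)).primeCompl y
    rw [Localization.localRingHom_mk', IsLocalization.mk'_eq_iff_eq_mul, ← map_mul,
      IsLocalization.eq_iff_exists M.primeCompl] at hy
    obtain ⟨⟨k, hk⟩, hk'⟩ := hy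
    exact ⟨a, g, k, hg, hk, by linear_combination -hk'⟩
  have hi : ∀ (a : A) (k : B), k ∉ M → k * algebraMap A B a = 0 →
      ∃ g : A, algebraMap A B g ∉ M ∧ g * a = 0 := by
    intro a k hk hka
    have h0 : L (algebraMap A _ a) = 0 := by
      rw [Localization.localRingHom_to_map, IsLocalization.map_eq_zero_iff M.primeCompl]
      exact ⟨⟨k, hk⟩, hka⟩
    have h1 : algebraMap A (Localization.AtPrime (M.comap (algebraMap A B))) a = 0 :=
      h.1 (by rw [h0, map_zero])
    obtain ⟨⟨g, hg⟩, hga⟩ :=
      (IsLocalization.map_eq_zero_iff (M.comap (algebraMap A B)).primeCompl _ a).1 h1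
    exact ⟨g, hg, hga⟩
  refine Ind91.bijective_localRingHom q (fun b => ?_) (fun a k hk hka => ?_)
  · obtain ⟨a, g, k, hg, hk, he⟩ := hs b
    exact ⟨a, g, k, fun h => hg (hle h), fun h => hk (hle h), he⟩
  · obtain ⟨a', g, k', hg, hk', he⟩ := hs k
    obtain ⟨g', hg', hg0⟩ := hi (a' * a) k' hk'
      (by rw [map_mul]; linear_combination -(algebraMap A B a) * he + (k' * algebraMap A B g) * hka)
    refine ⟨g' * a', ?_, by rw [mul_assoc]; exact hg0⟩
    rw [map_mul]
    refine Ideal.IsPrime.mul_notMem inferInstance (fun h => hg' (hle h)) fun ha' => ?_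
    have h2 : k' * algebraMap A B g * k ∈ q := by
      have : k' * algebraMap A B g * k = k' * algebraMap A B a' := by linear_combination he
      rw [this]; exact Ideal.mul_mem_left _ _ ha'
    rcases Ideal.IsPrime.mem_or_mem inferInstance h2 with h3 | h3
    · rcases Ideal.IsPrime.mem_or_mem inferInstance h3 with h4 | h4
      · exact hk' (hle h4)
      · exact hg (hle h4)
    · exact hk h3

end Groth.Agent.WE91
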