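import Groth.Agent.WE91.IntClosed
import Groth.Agent.WE91.LocalIntegral
import Groth.Agent.WE24.Field
import Mathlib.RingTheory.Localization.Integral
import Mathlib.RingTheory.LocalRing.ResidueField.Basic

universe u

open TensorProduct IsLocalRing

namespace Groth.Agent.WE91

variable {A B : Type u} [CommRing A] [CommRing B] [Algebra A B] [IsLocalRing B]
  [Algebra.WeaklyEtale A B]

/-- The residue extension at the closed point is trivial. -/
theorem exists_sub_mem_map [IsLocalRing A] [IsSepClosed (ResidueField A)] [IsLocalHom (algebraMap A B)]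
    (b : B) : ∃ a : A, b - algebraMap A B a ∈ (maximalIdeal A).map (algebraMap A B) := by
  let k := ResidueField A
  let R := k ⊗[A] B
  let inc : B →ₐ[A] R := Algebra.TensorProduct.includeRight
  have hsurj : Function.Surjective inc := fun z => by
    induction z using TensorProduct.induction_on with
    | zero => exact ⟨0, map_zero _⟩
    | tmul c b =>
      obtain ⟨a, rfl⟩ := IsLocalRing.residue_surjective c
      refine ⟨a • b, ?_⟩
      show (1 : k) ⊗ₜ[A] (a • b) = _
      rw [← smul_tmul, ← ResidueField.algebraMap_eq, Algebra.algebraMap_eq_smul_one]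
    | add z w hz hw => obtain ⟨x, rfl⟩ := hz; obtain ⟨y, rfl⟩ := hw; exact ⟨x + y, map_add _ _ _⟩
  let κm : k →ₐ[A] B ⧸ (maximalIdeal A).map (algebraMap A B) :=
    { Ideal.Quotient.lift (maximalIdeal A) (algebraMap A (B ⧸ (maximalIdeal A).map (algebraMap A B)))
        (fun a ha => Ideal.Quotient.eq_zero_iff_mem.2 (Ideal.mem_map_of_mem (algebraMap A B) ha)) with
      commutes' := fun a => rfl }
  let ρ : R →ₐ[A] B ⧸ (maximalIdeal A).map (algebraMap A B) := Algebra.TensorProduct.lift
    κm (Ideal.Quotient.mkₐ A _) fun _ _ => Commute.all _ _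
  have hρ : ∀ b, ρ (inc b) = Ideal.Quotient.mk _ b := fun b => by
    refine (Algebra.TensorProduct.lift_tmul _ _ _ (1 : k) b).trans ?_
    rw [map_one, one_mul, Ideal.Quotient.mkₐ_eq_mk]
  have : Nontrivial R := by
    by_contra h
    rw [not_nontrivial_iff_subsingleton] at h
    have h1 := congrArg ρ (Subsingleton.elim (inc 1) (inc 0))
    rw [hρ, hρ, map_zero, Ideal.Quotient.eq_zero_iff_mem] at h1
    have hle : (maximalIdeal A).map (algebraMap A B) ≤ maximalIdeal B :=
      Ideal.map_le_iff_le_comap.2 (IsLocalRing.maximalIdeal_comap (algebraMap A B)).ge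
    exact (maximalIdeal.isMaximal B).ne_top ((Ideal.eq_top_iff_one _).2 (hle h1))
  have : IsLocalRing R := IsLocalRing.of_surjective' inc.toRingHom hsurj
  have hfield : IsField R := by
    refine ⟨exists_pair_ne R, mul_comm, fun {x} hx => ?_⟩
    obtain ⟨y, hy⟩ := WE24.vnr_of_weaklyEtale (K := k) x
    have hid : x * y * (x * y) = x * y := by linear_combination y * hy
    rcases (IsLocalRing.isUnit_or_isUnit_one_sub_self (x * y)) with hu | hu
    · exact ⟨y, hu.mul_left_cancel (by rw [mul_one]; exact hid)⟩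
    · refine absurd ?_ hx
      have h0 : x * y = 0 := hu.mul_right_eq_zero.1 (by rw [sub_mul, one_mul, hid, sub_self])
      rw [← hy, mul_assoc, h0, mul_zero]
  letI := hfield.toField
  have : Algebra.IsSeparable k R := ⟨WE24.isSeparable_of_weaklyEtale⟩
  obtain ⟨c, hc⟩ := IsSepClosed.algebraMap_surjective k R (inc b)
  obtain ⟨a, rfl⟩ := IsLocalRing.residue_surjective c
  refine ⟨a, ?_⟩
  rw [← Ideal.Quotient.eq, ← hρ, ← hρ, ← hc, AlgHom.commutes]
  refine congrArg ρ ?_
  show algebraMap k R (algebraMap A k a) = _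
  rw [← IsScalarTower.algebraMap_apply]

variable [HenselianLocalRing A] [IsSepClosed (ResidueField A)] [IsLocalHom (algebraMap A B)]

/-- The base change to a normal integral domain over `A` is local. -/
theorem isLocalRing_baseChange (D : Type u) [CommRing D] [IsLocalRing D] [Algebra A D]
    [Algebra.IsIntegral A D] [Nontrivial (D ⊗[A] B)] : IsLocalRing (D ⊗[A] B) := by
  let S := D ⊗[A] B
  let : Algebra B S := Algebra.TensorProduct.rightAlgebra
  have : IsScalarTower A B S := Algebra.TensorProduct.right_isScalarTower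
  have : Algebra.IsIntegral B S := ⟨fun (z : D ⊗[A] B) => by
    induction z using TensorProduct.induction_on with
    | zero => exact isIntegral_zero
    | tmul d b =>
      have : (d ⊗ₜ[A] b : S) = (Algebra.TensorProduct.includeLeft (S := A) d) * algebraMap B S b := by
        show _ = ((d ⊗ₜ[A] (1 : B)) * ((1 : D) ⊗ₜ[A] b) : D ⊗[A] B)
        rw [Algebra.TensorProduct.tmul_mul_tmul, mul_one, one_mul]
      rw [this]
      exact ((Algebra.IsIntegral.isIntegral (R := A) d).map
        (Algebra.TensorProduct.includeLeft (R := A) (S := A) (A := D) (B := B))).tower_top.mul isIntegral_algebraMap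
    | add z w hz hw => exact hz.add hw⟩
  have hdec : ∀ z : S, ∃ d : D, z - d ⊗ₜ[A] (1 : B) ∈ (maximalIdeal A).map (algebraMap A S) := by
    intro z
    induction z using TensorProduct.induction_on with
    | zero => exact ⟨0, by simp⟩
    | tmul d b =>
      obtain ⟨a, ha⟩ := exists_sub_mem_map (A := A) b
      refine ⟨a • d, ?_⟩
      rw [smul_tmul, ← Algebra.algebraMap_eq_smul_one, ← tmul_sub]
      have h1 := Ideal.mem_map_of_mem (Algebra.TensorProduct.includeRight : B →ₐ[A] S).toRingHom ha
      rw [Ideal.map_map, AlgHom.toRingHom_eq_coe, AlgHom.comp_algebraMap] at h1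
      have h2 := Ideal.mul_mem_left _ (d ⊗ₜ[A] (1 : B)) h1
      simpa using h2
    | add z w hz hw =>
      obtain ⟨d, hd⟩ := hz
      obtain ⟨e, he⟩ := hw
      exact ⟨d + e, by rw [add_tmul, add_sub_add_comm]; exact add_mem hd he⟩
  have hchar : ∀ M : Ideal S, M.IsMaximal → ∀ z d, z - d ⊗ₜ[A] (1 : B) ∈ (maximalIdeal A).map (algebraMap A S) →
      (z ∈ M ↔ d ∈ maximalIdeal D) := by
    intro M hM z d hzd
    have hB : (M.comap (algebraMap B S)).IsMaximal := Ideal.isMaximal_comap_of_isIntegral_of_isMaximal M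
    have hA : M.comap (algebraMap A S) = maximalIdeal A := by
      rw [IsScalarTower.algebraMap_eq A B S, ← Ideal.comap_comap, IsLocalRing.eq_maximalIdeal hB]
      exact IsLocalRing.maximalIdeal_comap _
    have hsub : (maximalIdeal A).map (algebraMap A S) ≤ M := Ideal.map_le_iff_le_comap.2 hA.ge
    have hD : (M.comap (Algebra.TensorProduct.includeLeft : D →ₐ[A] S)).IsMaximal := by
      refine Ideal.isMaximal_of_isIntegral_of_isMaximal_comap (R := A) _ ?_
      show ((Ideal.comap (Algebra.TensorProduct.includeLeft : D →ₐ[A] S).toRingHom M).comap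
        (algebraMap A D)).IsMaximal
      rw [Ideal.comap_comap, AlgHom.toRingHom_eq_coe, AlgHom.comp_algebraMap, hA]
      infer_instance
    rw [← IsLocalRing.eq_maximalIdeal hD, Ideal.mem_comap]
    show z ∈ M ↔ d ⊗ₜ[A] (1 : B) ∈ M
    exact ⟨fun h => (Submodule.sub_mem_iff_right M h).1 (hsub hzd),
      fun h => (Submodule.sub_mem_iff_left M h).1 (hsub hzd)⟩
  refine IsLocalRing.of_unique_max_ideal ?_
  obtain ⟨M, hM⟩ := Ideal.exists_maximal S
  refine ⟨M, hM, fun M' hM' => Ideal.ext fun z => ?_⟩
  obtain ⟨d, hd⟩ := hdec z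
  rw [hchar M' hM' z d hd, hchar M hM z d hd]

/-- At most one map to a field algebraic over the base. -/
theorem algHom_eq_of_isFractionRing (D K : Type u) [CommRing D] [IsDomain D] [IsIntegrallyClosed D]
    [IsLocalRing D] [Algebra A D] [Algebra.IsIntegral A D] [Field K] [Algebra D K] [IsFractionRing D K]
    [Algebra A K] [IsScalarTower A D K] (φ₁ φ₂ : B →ₐ[A] K) : φ₁ = φ₂ := by
  let S := D ⊗[A] B
  let ψ : (B →ₐ[A] K) → (S →ₐ[D] K) := fun φ =>
    Algebra.TensorProduct.lift (Algebra.ofId D K) φ fun _ _ => Commute.all _ _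
  have : Nontrivial S := (ψ φ₁).toRingHom.domain_nontrivial
  have := isLocalRing_baseChange (A := A) (B := B) D
  let Ψ : (B →ₐ[A] K) → (K ⊗[D] S →ₐ[K] K) := fun φ =>
    Algebra.TensorProduct.lift (AlgHom.id K K) (ψ φ) fun _ _ => Commute.all _ _
  have hΨ : ∀ φ b, Ψ φ ((1 : K) ⊗ₜ ((1 : D) ⊗ₜ b)) = φ b := fun φ b => by
    refine (Algebra.TensorProduct.lift_tmul _ _ _ (1 : K) ((1 : D) ⊗ₜ[A] b)).trans ?_
    rw [map_one, one_mul]
    refine (Algebra.TensorProduct.lift_tmul _ _ _ (1 : D) b).trans ?_
    rw [map_one, one_mul]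
  suffices hall : ∀ z, Ψ φ₁ z = Ψ φ₂ z from AlgHom.ext fun b => by rw [← hΨ, hall, hΨ]
  intro z
  by_contra hne
  let w := z - algebraMap K _ (Ψ φ₂ z)
  have hw₂ : Ψ φ₂ w = 0 := by simp [w]
  have hw₁ : Ψ φ₁ w ≠ 0 := by
    simp only [w, map_sub, AlgHom.commutes]
    exact sub_ne_zero.2 hne
  obtain ⟨y, hy⟩ := WE24.vnr_of_weaklyEtale (K := K) (S := K ⊗[D] S) w
  have he : w * y * (w * y) = w * y := by linear_combination y * hy
  obtain ⟨s, hs⟩ := mem_range_of_isIntegral (A := D) (K := K) (B := S) (w * y)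
    ⟨Polynomial.X ^ 2 - Polynomial.X, Polynomial.monic_X_pow_sub (by simp),
      by rw [Polynomial.eval₂_sub, Polynomial.eval₂_X_pow, Polynomial.eval₂_X, sq, he, sub_self]⟩
  have hinj : Function.Injective (Algebra.TensorProduct.includeRight : S →ₐ[D] K ⊗[D] S) :=
    Algebra.TensorProduct.includeRight_injective (IsFractionRing.injective D K)
  have hse : IsIdempotentElem s := hinj (by rw [map_mul, hs]; exact he)
  have h1 : Ψ φ₁ (w * y) = 1 := by
    have := congrArg (Ψ φ₁) hy
    rw [map_mul, map_mul] at this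
    rw [map_mul]
    exact mul_left_cancel₀ hw₁ (by rw [← mul_assoc, this, mul_one])
  have h2 : Ψ φ₂ (w * y) = 0 := by rw [map_mul, hw₂, zero_mul]
  rcases IsLocalRing.isUnit_or_isUnit_one_sub_self s with hu | hu
  · rw [← hs, show s = 1 from hu.mul_left_cancel (by rw [hse.eq, mul_one]), map_one, map_one] at h2
    exact one_ne_zero h2
  · rw [← hs, show s = 0 from hu.mul_right_eq_zero.1 (by rw [sub_mul, one_mul, hse.eq, sub_self]),
      map_zero, map_zero] at h1
    exact zero_ne_one h1

/-- At most one map to any field. -/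
theorem algHom_eq (L : Type u) [Field L] [Algebra A L] (φ₁ φ₂ : B →ₐ[A] L) : φ₁ = φ₂ := by
  let p := RingHom.ker (algebraMap A L)
  have : p.IsPrime := RingHom.ker_isPrime _
  let A' := A ⧸ p
  let : Algebra A' L := (Ideal.Quotient.lift p (algebraMap A L) fun a ha => ha).toAlgebra
  have : IsScalarTower A A' L := IsScalarTower.of_algebraMap_eq fun _ => rfl
  have hinjA : Function.Injective (algebraMap A' L) := RingHom.kerLift_injective (algebraMap A L)
  let κ := FractionRing A'
  let : Algebra κ L := (IsFractionRing.lift hinjA).toAlgebra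
  have : IsScalarTower A' κ L := IsScalarTower.of_algebraMap_eq fun a =>
    (IsFractionRing.lift_algebraMap hinjA a).symm
  have : IsScalarTower A κ L := IsScalarTower.of_algebraMap_eq fun a => by
    rw [IsScalarTower.algebraMap_apply A A' L, IsScalarTower.algebraMap_apply A' κ L,
      ← IsScalarTower.algebraMap_apply A A' κ]
  -- the image consists of algebraic elements
  let E : IntermediateField κ L := algebraicClosure κ L
  have halg : ∀ (φ : B →ₐ[A] L) b, φ b ∈ E := fun φ b => by
    rw [mem_algebraicClosure_iff]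
    let χ : κ ⊗[A] B →ₐ[κ] L := Algebra.TensorProduct.lift (Algebra.ofId κ L) φ fun _ _ => Commute.all _ _
    have hb : χ ((1 : κ) ⊗ₜ b) = φ b := by simp [χ]
    rw [← hb]
    exact ((WE24.isSeparable_of_weaklyEtale (K := κ) ((1 : κ) ⊗ₜ[A] b)).isIntegral.map χ).isAlgebraic
  let ψ : (B →ₐ[A] L) → (B →ₐ[A] E) := fun φ => φ.codRestrict (E.toSubalgebra.restrictScalars A) (halg φ)
  suffices h : ψ φ₁ = ψ φ₂ from AlgHom.ext fun b => congrArg Subtype.val (AlgHom.congr_fun h b)
  have : Algebra.IsAlgebraic A' κ := IsLocalization.isAlgebraic κ (nonZeroDivisors A')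
  have : Algebra.IsAlgebraic κ E := algebraicClosure.isAlgebraic κ L
  have : Algebra.IsAlgebraic A' E := Algebra.IsAlgebraic.trans A' κ E
  let D := integralClosure A' E
  have : IsFractionRing D E := integralClosure.isFractionRing_of_algebraic fun x hx =>
    hinjA (((congrArg Subtype.val hx : algebraMap A' L x = 0)).trans (map_zero _).symm)
  have : Algebra.IsIntegral A' D := ⟨integralClosure.isIntegral⟩
  have : IsIntegrallyClosed D := (isIntegrallyClosed_iff E).2 fun {z} hz =>
    ⟨⟨z, isIntegral_trans z hz⟩, rfl⟩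
  have : Algebra.IsIntegral A A' := ⟨fun x => by
    obtain ⟨x, rfl⟩ := Ideal.Quotient.mk_surjective x
    exact isIntegral_algebraMap⟩
  let : Algebra A D := ((algebraMap A' D).comp (algebraMap A A')).toAlgebra
  have : IsScalarTower A A' D := IsScalarTower.of_algebraMap_eq fun _ => rfl
  have : IsScalarTower A D E := IsScalarTower.of_algebraMap_eq fun a => Subtype.ext <|
    IsScalarTower.algebraMap_apply A A' L a
  have : Algebra.IsIntegral A D := Algebra.IsIntegral.trans A'
  have : IsLocalRing D := isLocalRing_of_isIntegral_of_isDomain A D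
  exact algHom_eq_of_isFractionRing (A := A) (B := B) D E _ _

/-- Olivier's theorem. -/
theorem bijective_algebraMap : Function.Bijective (algebraMap A B) := by
  let μ := Algebra.TensorProduct.lmul' A (S := B)
  have hpure : (RingHom.ker μ.toRingHom).Pure :=
    FlatMor67.pure_ker_lmul' (Algebra.WeaklyEtale.flat_lmul' A B)
  have hker : ∀ Q : Ideal (B ⊗[A] B), Q.IsPrime → RingHom.ker μ.toRingHom ≤ Q := fun Q hQ => by
    let L := Q.ResidueField
    let ev : B ⊗[A] B →ₐ[A] L := IsScalarTower.toAlgHom A (B ⊗[A] B) L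
    have h12 := algHom_eq (A := A) L (ev.comp Algebra.TensorProduct.includeLeft)
      (ev.comp Algebra.TensorProduct.includeRight)
    have hev : ∀ z, ev z = ev (μ z ⊗ₜ 1) := fun z => by
      induction z using TensorProduct.induction_on with
      | zero => simp
      | tmul b c =>
        have hc : ev (c ⊗ₜ 1) = ev (1 ⊗ₜ c) := AlgHom.congr_fun h12 c
        rw [show μ (b ⊗ₜ c) = b * c from Algebra.TensorProduct.lmul'_apply_tmul _ _,
          show ((b * c) ⊗ₜ[A] (1 : B)) = (b ⊗ₜ 1) * (c ⊗ₜ 1) by simp,
          map_mul, hc, ← map_mul]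
        simp
      | add z w hz hw => simp only [map_add, add_tmul, hz, hw]
    intro z hz
    have h0 : ev z = 0 := by rw [hev, show μ z = 0 from hz]; simp
    exact Ideal.algebraMap_residueField_eq_zero.1 h0
  have hinjμ : Function.Injective μ := by
    rw [injective_iff_map_eq_zero]
    intro z hz
    obtain ⟨e, he, hze⟩ := @Ideal.exists_eq_mul_of_pure _ _ _ hpure z hz
    have hu : IsUnit (1 - e) := by
      by_contra h
      obtain ⟨M, hM, heM⟩ := exists_max_ideal_of_mem_nonunits h
      exact hM.ne_top ((Ideal.eq_top_iff_one _).2 (by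
        simpa using add_mem heM (hker M hM.isPrime he)))
    exact hu.mul_left_eq_zero.1 (by rw [mul_sub, mul_one, ← hze, sub_self])
  have hff : Module.FaithfullyFlat A B := Module.FaithfullyFlat.of_flat_of_isLocalHom
  have hinj : Function.Injective (algebraMap A B) := FaithfulSMul.algebraMap_injective A B
  refine ⟨hinj, fun b => ?_⟩
  let f : A →ₗ[A] B := Algebra.linearMap A B
  have hsurj : Function.Surjective (f.lTensor B) := fun z => ⟨(μ z) ⊗ₜ 1, hinjμ (by simp [μ, f])⟩
  exact (Module.FaithfullyFlat.lTensor_surjective_iff_surjective A B f).1 hsurj b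

end Groth.Agent.WE91
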