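import Groth.Agent.WE91.ValCover
import Groth.Agent.FlatMor67.FlatMul
import Mathlib.RingTheory.Flat.TorsionFree
import Mathlib.RingTheory.Flat.FaithfullyFlat.Algebra
import Mathlib.RingTheory.Ideal.GoingUp
import Mathlib.LinearAlgebra.TensorProduct.Pi
import Mathlib.RingTheory.IntegralClosure.IntegrallyClosed
import Mathlib.RingTheory.Localization.FractionRing

set_option linter.style.haveILetI false

universe u

open TensorProduct

namespace Groth.Agent.WE91

variable {A : Type u} [CommRing A] {K : Type u} [Field K] [Algebra A K] {B : Type u} [CommRing B]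
  [Algebra A B]

/-- Every element of the generic fibre has a denominator. -/
theorem exists_denominator [IsDomain A] [IsFractionRing A K] (z : K ⊗[A] B) :
    ∃ (a : A) (b : B), a ≠ 0 ∧ a • z = (1 : K) ⊗ₜ b := by
  induction z using TensorProduct.induction_on with
  | zero => exact ⟨1, 0, one_ne_zero, by rw [smul_zero, tmul_zero]⟩
  | tmul k b =>
    obtain ⟨c, ⟨s, hs⟩, rfl⟩ := IsLocalization.exists_mk'_eq (nonZeroDivisors A) k
    refine ⟨s, c • b, nonZeroDivisors.ne_zero hs, ?_⟩
    rw [smul_tmul', Algebra.smul_def,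
      show algebraMap A K s * IsLocalization.mk' K c (⟨s, hs⟩ : nonZeroDivisors A) = algebraMap A K c from
        IsLocalization.mk'_spec' K c (⟨s, hs⟩ : nonZeroDivisors A),
      Algebra.algebraMap_eq_smul_one, smul_tmul]
  | add z w hz hw =>
    obtain ⟨a, b, ha, hz⟩ := hz
    obtain ⟨a', b', ha', hw⟩ := hw
    refine ⟨a * a', a' • b + a • b', mul_ne_zero ha ha', ?_⟩
    rw [smul_add, mul_comm, mul_smul, hz, mul_comm, mul_smul, hw, tmul_add, tmul_smul, tmul_smul]

/-- Over a Bezout domain, integral elements with denominators of a weakly etale algebra lie in it. -/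
theorem mem_range_of_bezout {V R E : Type u} [CommRing V] [IsDomain V] [IsBezout V] [CommRing R]
    [CommRing E] [Algebra V R] [Algebra R E] [Algebra V E] [IsScalarTower V R E]
    [Algebra.WeaklyEtale V R] (hinj : Function.Injective (algebraMap R E))
    (htf : ∀ v : V, v ≠ 0 → IsUnit (algebraMap V E v)) {x : E} (hint : IsIntegral R x) {b d : R}
    (hd : IsUnit (algebraMap R E d)) (hdx : algebraMap R E d * x = algebraMap R E b) :
    x ∈ Set.range (algebraMap R E) := by
  let D := Algebra.adjoin R {x}
  have : Module.Finite R D := Algebra.finite_adjoin_simple_of_isIntegral hint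
  have hflatV : Module.Flat V D := by
    refine (Module.Flat.flat_iff_torsion_eq_bot_of_isBezout (R := V) (M := D)).2 ?_
    rw [eq_bot_iff]
    intro y hy
    obtain ⟨⟨v, hv⟩, hvy⟩ := hy
    have h1 : algebraMap V E v * (y : E) = 0 := by
      rw [← Algebra.smul_def]
      exact congrArg Subtype.val hvy
    exact Subtype.ext ((htf v (nonZeroDivisors.ne_zero hv)).mul_right_eq_zero.1 h1)
  have : Module.Flat R D :=
    FlatMor67.flat_of_flat_lmul' (A := V) (Algebra.WeaklyEtale.flat_lmul' V R) D
  have : Module.FaithfullyFlat R D := by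
    refine Module.FaithfullyFlat.of_comap_surjective fun P => ?_
    have : Algebra.IsIntegral R D := Algebra.IsIntegral.of_finite _ _
    have hker : RingHom.ker (algebraMap R D) ≤ P.asIdeal := fun z hz => by
      rw [hinj ((congrArg Subtype.val (RingHom.mem_ker.1 hz)).trans (map_zero _).symm)]
      exact P.asIdeal.zero_mem
    obtain ⟨Q, -, hQ, hQP⟩ := Ideal.exists_ideal_over_prime_of_isIntegral (S := D) P.asIdeal ⊥ hker
    exact ⟨⟨Q, hQ⟩, PrimeSpectrum.ext hQP⟩
  have hb : algebraMap R D b ∈ (Ideal.span {d}).map (algebraMap R D) := by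
    rw [Ideal.map_span, Set.image_singleton, Ideal.mem_span_singleton']
    exact ⟨⟨x, Algebra.subset_adjoin rfl⟩, Subtype.ext ((mul_comm _ _).trans hdx)⟩
  have hmem : b ∈ Ideal.span {d} := by
    rw [← Ideal.comap_map_eq_self_of_faithfullyFlat (B := D) (Ideal.span {d}), Ideal.mem_comap]
    exact hb
  obtain ⟨y, hy⟩ := Ideal.mem_span_singleton'.1 hmem
  exact ⟨y, hd.mul_left_cancel (by rw [← map_mul, mul_comm, hy, hdx])⟩

/-- Over a valuation ring containing `A`, integral elements of the generic fibre are integral. -/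
theorem mem_range_of_valuationSubring [IsDomain A] [IsFractionRing A K] [Algebra.WeaklyEtale A B]
    (V : ValuationSubring K) [Algebra A V] [IsScalarTower A V K] (x : K ⊗[A] B)
    (hx : ((Algebra.TensorProduct.includeRight : B →ₐ[A] K ⊗[A] B)).toRingHom.IsIntegralElem x) :
    x ∈ Set.range (Algebra.TensorProduct.map (IsScalarTower.toAlgHom A V K) (AlgHom.id A B)) := by
  let j := Algebra.TensorProduct.map (IsScalarTower.toAlgHom A V K) (AlgHom.id A B)
  letI : Algebra (V ⊗[A] B) (K ⊗[A] B) := j.toRingHom.toAlgebra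
  have : IsScalarTower V (V ⊗[A] B) (K ⊗[A] B) := IsScalarTower.of_algebraMap_eq fun (v : V) => by
    show ((v : K) ⊗ₜ[A] (1 : B)) = j ((v : V) ⊗ₜ[A] (1 : B))
    simp [j]
  have hinj : Function.Injective j :=
    Module.Flat.rTensor_preserves_injective_linearMap (M := B)
      (IsScalarTower.toAlgHom A V K).toLinearMap Subtype.val_injective
  have hint : IsIntegral (V ⊗[A] B) x := by
    obtain ⟨p, hp, hpx⟩ := hx
    refine ⟨p.map (Algebra.TensorProduct.includeRight : B →ₐ[A] V ⊗[A] B).toRingHom, hp.map _, ?_⟩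
    rw [Polynomial.eval₂_map]
    have : (algebraMap (V ⊗[A] B) (K ⊗[A] B)).comp
        (Algebra.TensorProduct.includeRight : B →ₐ[A] V ⊗[A] B).toRingHom =
        (Algebra.TensorProduct.includeRight : B →ₐ[A] K ⊗[A] B).toRingHom :=
      RingHom.ext fun b => by
        show j ((1 : V) ⊗ₜ b) = (1 : K) ⊗ₜ b
        simp [j]
    rw [this]; exact hpx
  obtain ⟨a, b, ha, hab⟩ := exists_denominator x
  refine mem_range_of_bezout (V := V) (R := V ⊗[A] B) (E := K ⊗[A] B) hinj (fun v hv => ?_) hint
    (b := (1 : V) ⊗ₜ b) (d := algebraMap A _ a) ?_ ?_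
  · show IsUnit (algebraMap K (K ⊗[A] B) (v : K))
    exact RingHom.isUnit_map _ (isUnit_iff_ne_zero.2 fun h => hv (Subtype.ext h))
  · show IsUnit (j (algebraMap A _ a))
    rw [j.commutes, IsScalarTower.algebraMap_apply A K (K ⊗[A] B)]
    exact RingHom.isUnit_map _ (isUnit_iff_ne_zero.2 (IsFractionRing.to_map_ne_zero_of_mem_nonZeroDivisors
      (mem_nonZeroDivisors_of_ne_zero ha)))
  · show j (algebraMap A _ a) * x = j ((1 : V) ⊗ₜ b)
    rw [j.commutes, ← Algebra.smul_def, hab]
    simp [j]

/-- Weakly etale algebras over normal domains are integrally closed in the generic fibre. -/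
theorem mem_range_of_isIntegral [IsDomain A] [IsIntegrallyClosed A] [IsFractionRing A K]
    [Algebra.WeaklyEtale A B] (x : K ⊗[A] B)
    (hx : ((Algebra.TensorProduct.includeRight : B →ₐ[A] K ⊗[A] B)).toRingHom.IsIntegralElem x) :
    x ∈ Set.range (Algebra.TensorProduct.includeRight : B →ₐ[A] K ⊗[A] B) := by
  classical
  let R : Subring K := (algebraMap A K).range
  haveI : IsIntegrallyClosedIn R K := by
    rw [isIntegrallyClosedIn_iff]
    refine ⟨Subtype.val_injective, fun {z} hz => ?_⟩
    have hzA : IsIntegral A z := by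
      obtain ⟨p, hp, hpz⟩ := hz
      obtain ⟨q, hq, -, hqm⟩ := Polynomial.lifts_and_degree_eq_and_monic
        (Polynomial.mem_lifts _ |>.2 (Polynomial.map_surjective _ (algebraMap A K).rangeRestrict_surjective p))
        hp
      refine ⟨q, hqm, ?_⟩
      rw [← hq, Polynomial.eval₂_map] at hpz
      exact hpz
    obtain ⟨a, ha⟩ := IsIntegrallyClosed.isIntegral_iff.1 hzA
    exact ⟨⟨z, a, ha⟩, rfl⟩
  obtain ⟨F, hFQ, hFR⟩ := exists_finite_cover R
    (fun T => x ∈ Set.range (LinearMap.rTensor B
      (Subalgebra.toSubmodule (Algebra.adjoin A (T : Set K))).subtype)) fun V hV => by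
    letI : Algebra A V := ((algebraMap A K).codRestrict V.toSubring fun a => hV ⟨a, rfl⟩).toAlgebra
    have : IsScalarTower A V K := IsScalarTower.of_algebraMap_eq fun _ => rfl
    obtain ⟨y, rfl⟩ := mem_range_of_valuationSubring V x hx
    clear hx
    induction y using TensorProduct.induction_on with
    | zero => exact ⟨∅, by simp, 0, by simp⟩
    | tmul v b =>
      refine ⟨{(v : K)}, by simp, ⟨(v : K), Algebra.subset_adjoin (by simp)⟩ ⊗ₜ b, ?_⟩
      simp
    | add y z hy hz =>
      obtain ⟨T, hT, u, hu⟩ := hy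
      obtain ⟨T', hT', w, hw⟩ := hz
      have mono : ∀ {S S' : Finset K} (hSS : S ⊆ S') (t : (Subalgebra.toSubmodule
          (Algebra.adjoin A (S : Set K))) ⊗[A] B), ∃ t',
          LinearMap.rTensor B (Subalgebra.toSubmodule (Algebra.adjoin A (S' : Set K))).subtype t' =
          LinearMap.rTensor B (Subalgebra.toSubmodule (Algebra.adjoin A (S : Set K))).subtype t :=
        fun {S S'} hSS t => ⟨LinearMap.rTensor B (Submodule.inclusion
          (Algebra.adjoin_mono (Finset.coe_subset.2 hSS))) t, by
            rw [← LinearMap.comp_apply, ← LinearMap.rTensor_comp]; rfl⟩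
      obtain ⟨u', hu'⟩ := mono (Finset.subset_union_left (s₂ := T')) u
      obtain ⟨w', hw'⟩ := mono (Finset.subset_union_right (s₁ := T)) w
      refine ⟨T ∪ T', by simpa using ⟨hT, hT'⟩, u' + w', ?_⟩
      rw [map_add, hu', hw', hu, hw, map_add]
  let M : F → Submodule A K := fun T => Subalgebra.toSubmodule (Algebra.adjoin A ((T : Finset K) : Set K))
  let ψ : K →ₗ[A] ∀ T : F, K ⧸ M T := LinearMap.pi fun T => (M T).mkQ
  have hex : Function.Exact (Algebra.linearMap A K) ψ := by
    intro z
    constructor
    · intro hz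
      have hzR : z ∈ R := hFR z fun T hT => by
        have h0 : (M ⟨T, hT⟩).mkQ z = 0 := congrFun hz ⟨T, hT⟩
        rw [Submodule.mkQ_apply, Submodule.Quotient.mk_eq_zero] at h0
        have h1 : z ∈ (Algebra.adjoin A (T : Set K)).toSubring := h0
        rw [Algebra.adjoin_eq_ring_closure, RingHom.coe_range] at *
        exact h1
      exact hzR
    · rintro ⟨a, rfl⟩
      funext T
      exact (Submodule.Quotient.mk_eq_zero _).2 ((Algebra.adjoin A _).algebraMap_mem a)
  have hzero : LinearMap.rTensor B ψ x = 0 := by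
    apply (TensorProduct.piLeft (R := A) (N := B) (M := fun T : F => K ⧸ M T)).injective
    rw [map_zero]
    funext T
    obtain ⟨t, ht⟩ := hFQ T T.2
    have key : ∀ z, TensorProduct.piLeft (R := A) (N := B) (M := fun T : F => K ⧸ M T) (LinearMap.rTensor B ψ z) T =
        LinearMap.rTensor B (M T).mkQ z := fun z => by
      induction z using TensorProduct.induction_on with
      | zero => simp
      | tmul k b => simp [ψ]
      | add z w hz hw => simp only [map_add, Pi.add_apply, hz, hw]
    rw [key, ← ht, ← LinearMap.comp_apply, ← LinearMap.rTensor_comp]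
    have : (M T).mkQ ∘ₗ (M T).subtype = 0 := by ext z; simp
    rw [this]
    simp
  obtain ⟨y, hy⟩ := (Module.Flat.rTensor_exact B hex x).1 hzero
  refine ⟨TensorProduct.lid A B y, ?_⟩
  rw [← hy]
  clear hy
  induction y using TensorProduct.induction_on with
  | zero => simp
  | tmul a b =>
    show (1 : K) ⊗ₜ[A] (TensorProduct.lid A B (a ⊗ₜ b)) = algebraMap A K a ⊗ₜ b
    rw [TensorProduct.lid_tmul, ← smul_tmul, Algebra.algebraMap_eq_smul_one]
  | add y z hy hz => simp only [map_add, hy, hz]

end Groth.Agent.WE91
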