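import Mathlib.RingTheory.Valuation.LocalSubring
import Mathlib.Topology.Compactness.Compact
import Mathlib.Topology.Constructions

universe u

/-!
Quasi-compactness of the space of valuation rings over an integrally closed subring.
-/

namespace Groth.Agent.WE91

variable {K : Type u} [Field K]

/-- A property of finite subsets realised in every valuation ring over `R` is realised by finitely
many finite sets which together cut out exactly `R`. -/
theorem exists_finite_cover (R : Subring K) [IsIntegrallyClosedIn R K] (Q : Finset K → Prop)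
    (h : ∀ V : ValuationSubring K, R ≤ V.toSubring → ∃ T : Finset K, (T : Set K) ⊆ V ∧ Q T) :
    ∃ F : Finset (Finset K), (∀ T ∈ F, Q T) ∧
      ∀ x : K, (∀ T ∈ F, x ∈ Subring.closure ((R : Set K) ∪ T)) → x ∈ R := by
  classical
  let C : Set (K → Bool) :=
    {f | (∀ r ∈ R, f r = true) ∧ (∀ x y, f x = true → f y = true → f (x + y) = true ∧ f (x * y) = true) ∧
      (∀ x, f x = true → f (-x) = true) ∧ ∀ x, f x = true ∨ f x⁻¹ = true}
  have hev : ∀ (x : K), IsClopen {f : K → Bool | f x = true} := fun x =>
    (isClopen_discrete ({true} : Set Bool)).preimage (continuous_apply x)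
  have hC : IsClosed C := by
    simp only [C, Set.ofPred_and, Set.ofPred_forall]
    refine (isClosed_iInter fun r => isClosed_iInter fun _ => (hev r).1).inter
      ((isClosed_iInter fun x => isClosed_iInter fun y => ?_).inter
        ((isClosed_iInter fun x => ?_).inter (isClosed_iInter fun x => (hev x).1.union (hev x⁻¹).1)))
    · exact isClosed_imp (hev x).2 (isClosed_imp (hev y).2 ((hev _).1.inter (hev _).1))
    · exact isClosed_imp (hev x).2 (hev _).1
  have hcomp : IsCompact C := hC.isCompact
  let toV : ∀ f ∈ C, ValuationSubring K := fun f hf =>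
    { carrier := {x | f x = true}
      one_mem' := hf.1 1 R.one_mem
      mul_mem' := fun hx hy => (hf.2.1 _ _ hx hy).2
      zero_mem' := hf.1 0 R.zero_mem
      add_mem' := fun hx hy => (hf.2.1 _ _ hx hy).1
      neg_mem' := fun hx => hf.2.2.1 _ hx
      mem_or_inv_mem' := hf.2.2.2 }
  obtain ⟨F, hF⟩ := hcomp.elim_finite_subcover
    (fun T : {T : Finset K // Q T} => ⋂ t ∈ T.1, {f : K → Bool | f t = true})
    (fun T => isOpen_biInter_finset fun t _ => (hev t).2) fun f hf => by
      obtain ⟨T, hTV, hT⟩ := h (toV f hf) fun r hr => hf.1 r hr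
      exact Set.mem_iUnion.2 ⟨⟨T, hT⟩, Set.mem_iInter₂.2 fun t ht => hTV ht⟩
  refine ⟨F.image Subtype.val, ?_, fun x hx => ?_⟩
  · intro T hT
    obtain ⟨T, -, rfl⟩ := Finset.mem_image.1 hT
    exact T.2
  · rw [Subring.eq_iInf_of_isIntegrallyClosedIn (R := R), Subring.mem_iInf]
    rintro ⟨V, hV⟩
    have hVC : (fun z => decide (z ∈ V)) ∈ C := by
      refine ⟨fun r hr => decide_eq_true (hV hr), fun a b ha hb => ?_, fun a ha => ?_, fun a => ?_⟩
      · simp only [decide_eq_true_eq] at ha hb ⊢
        exact ⟨V.add_mem _ _ ha hb, V.mul_mem _ _ ha hb⟩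
      · simp only [decide_eq_true_eq] at ha ⊢
        exact V.neg_mem _ ha
      · simp only [decide_eq_true_eq]
        exact V.mem_or_inv_mem a
    obtain ⟨T, hT, hTV⟩ := Set.mem_iUnion₂.1 (hF hVC)
    have hle : Subring.closure ((R : Set K) ∪ (T.1 : Set K)) ≤ V.toSubring :=
      Subring.closure_le.2 (Set.union_subset hV fun t ht => by
        simpa using Set.mem_iInter₂.1 hTV t ht)
    exact hle (hx T.1 (Finset.mem_image_of_mem _ hT))

end Groth.Agent.WE91
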